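import Groth.Agent.Lib.PtFF9.Efface
import Groth.Agent.Lib.KerId9.Fix
import Groth.Agent.Lib.BvdB9.Span
import Groth.Agent.Lib.DGen9.Basics
import Mathlib.CategoryTheory.Adjunction.FullyFaithful

/-! Modules supported at a closed point, inside the derived category of the scheme. -/

set_option autoImplicit false
set_option linter.unusedSectionVars false
set_option linter.style.haveILetI false
set_option backward.isDefEq.respectTransparency false
set_option backward.isDefEq.respectTransparency.types false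
set_option maxHeartbeats 1600000

universe u

open CategoryTheory CategoryTheory.Limits AlgebraicGeometry CategoryTheory.Pretriangulated

attribute [local instance] HasDerivedCategory.standard
attribute [local instance] Groth.Agent.DBC9.hasRpush

noncomputable section

namespace Groth.Agent.PtFF9

variable {X : Scheme.{u}} {A : CommRingCat.{u}}

/-- Modules of an affine piece, as objects on the whole scheme. -/
def phi (j : Spec A ⟶ X) : DerivedCategory (ModuleCat.{u} A) ⥤ DCoh.D X :=
  DPerf.tildeDD A ⋙ DCoh.Rpush j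

/-- Finite and killed by a power. -/
def Fl (m : Ideal A) (M : ModuleCat.{u} A) : Prop :=
  Module.Finite A M ∧ ∃ t : ℕ, ∀ r ∈ m ^ t, ∀ z : M, r • z = 0

theorem bijective_phi (j : Spec A ⟶ X) [IsOpenImmersion j] (a b : DerivedCategory (ModuleCat.{u} A)) :
    Function.Bijective fun f : a ⟶ b => (phi j).map f := by
  haveI := DGen9.isIso_counit j
  exact ((DGen9.adjR j).fullyFaithfulROfIsIsoCounit.map_bijective _ _).comp (DQC.bijective_map a b)

theorem nonempty_phi_sgl (j : Spec A ⟶ X) [IsAffineHom j] (M : ModuleCat.{u} A) :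
    Nonempty ((phi j).obj (sgl M) ≅ DCoh.inD X ((Scheme.Modules.pushforward j).obj ((tilde.functor A).obj M))) := by
  have hq : Coh.IsQCoh ((tilde.functor A).obj M) := inferInstanceAs ((tilde.functor A).obj M).IsQuasicoherent
  obtain ⟨e⟩ := TwistBC9.nonempty_rpush_inD_of_acyclic j _ hq (DPush9.isAcyclicObj_affine j hq)
  exact ⟨(DCoh.Rpush j).mapIso (((tilde.functor A).mapDerivedCategorySingleFunctor 0).app M) ≪≫ e⟩

/-- Direct images along a quotient. -/
theorem exists_tilde_restrict {B : CommRingCat.{u}} (π : A ⟶ B) [IsNoetherianRing B] (Q : ModuleCat.{u} B)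
    [Module.Finite B Q] :
    ∃ T : (Spec B).Modules, Coh.IsCoh T ∧ Nonempty (tilde ((ModuleCat.restrictScalars π.hom).obj Q) ≅
      (Scheme.Modules.pushforward (Spec.map π)).obj T) := by
  let T : (Spec B).Modules := tilde Q
  have hq : Coh.IsQCoh T := inferInstanceAs ((tilde.functor B).obj Q).IsQuasicoherent
  have hT : Coh.IsCoh T := ⟨hq, (M1.isFT_iff_finite_spec T hq).2
    (Module.Finite.equiv (M := (Q : Type u)) (tilde.toTildeΓNatIso.app Q).toLinearEquiv)⟩
  haveI : ((Scheme.Modules.pushforward (Spec.map π)).obj T).IsQuasicoherent :=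
    M1.isQCoh_push (Spec.map π) hT.1
  exact ⟨T, hT, ⟨(tilde.functor A).mapIso (((M1.pushΓIso π).app T ≪≫
      (ModuleCat.restrictScalars π.hom).mapIso (tilde.toTildeΓNatIso.app Q).symm).symm) ≪≫
      @asIso _ _ _ _ ((Scheme.Modules.pushforward (Spec.map π)).obj T).fromTildeΓ
        (Scheme.Modules.isIso_fromTildeΓ_of_isQuasicoherent (R := A) _)⟩⟩

/-- A finite module killed by a power of a maximal ideal gives a coherent sheaf at the point. -/
theorem coh_of_fl [IsLocallyNoetherian X] [IsNoetherianRing A] (j : Spec A ⟶ X) [IsOpenImmersion j] [IsAffineHom j]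
    (m : Ideal A) [hm : m.IsMaximal] (hxc : IsClosed ({j ⟨m, hm.isPrime⟩} : Set X)) {M : ModuleCat.{u} A} (hM : Fl m M) :
    Coh.IsCoh ((Scheme.Modules.pushforward j).obj ((tilde.functor A).obj M)) ∧
      CohB1.support ((Scheme.Modules.pushforward j).obj ((tilde.functor A).obj M)) ⊆ {j ⟨m, hm.isPrime⟩} := by
  obtain ⟨hfin, t, ht⟩ := hM
  haveI := hfin
  let J := m ^ (t + 1)
  let B : CommRingCat.{u} := CommRingCat.of (A ⧸ J)
  let π : A ⟶ B := CommRingCat.ofHom (Ideal.Quotient.mk J)
  have hT : Module.IsTorsionBySet A M J := fun z r => ht r.1 (Ideal.pow_le_pow_right (Nat.le_succ t) r.2) z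
  letI : Module (A ⧸ J) M := hT.module
  haveI : IsScalarTower A (A ⧸ J) M := hT.isScalarTower
  let Q : ModuleCat.{u} B := ModuleCat.of (A ⧸ J) M
  haveI : Module.Finite B Q := Module.Finite.of_restrictScalars_finite A (A ⧸ J) M
  haveI : IsNoetherianRing B := inferInstanceAs (IsNoetherianRing (A ⧸ J))
  obtain ⟨T, hTc, ⟨eT⟩⟩ := exists_tilde_restrict π Q
  let eQ : M ≅ (ModuleCat.restrictScalars π.hom).obj Q :=
    LinearEquiv.toModuleIso (X₁ := M) (X₂ := (ModuleCat.restrictScalars π.hom).obj Q)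
      { toFun := fun z => z, invFun := fun z => z, left_inv := fun _ => rfl, right_inv := fun _ => rfl,
        map_add' := fun _ _ => rfl, map_smul' := fun _ _ => rfl }
  haveI : IsClosedImmersion (Spec.map π) := IsClosedImmersion.spec_of_surjective π Ideal.Quotient.mk_surjective
  let i := Spec.map π ≫ j
  let z : Spec A := ⟨m, hm.isPrime⟩
  have hzc : IsClosed ({z} : Set (Spec A)) := (PrimeSpectrum.isClosed_singleton_iff_isMaximal z).2 hm
  have h1 : Set.range (Spec.map π) = {z} := by
    show Set.range (PrimeSpectrum.comap π.hom) = _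
    rw [range_comap_of_surjective _ π.hom Ideal.Quotient.mk_surjective]
    rw [show RingHom.ker π.hom = m ^ (t + 1) from Ideal.mk_ker]
    rw [PrimeSpectrum.zeroLocus_pow m (Nat.succ_ne_zero t), ← PrimeSpectrum.closure_singleton z]
    exact hzc.closure_eq
  have hr : Set.range i = {j z} := by
    change Set.range (Spec.map π ≫ j) = _
    rw [Scheme.Hom.comp_base, TopCat.coe_comp, Set.range_comp, h1, Set.image_singleton]
  let eP : (Scheme.Modules.pushforward j).obj ((tilde.functor A).obj M) ≅ (Scheme.Modules.pushforward i).obj T :=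
    (Scheme.Modules.pushforward j).mapIso ((tilde.functor A).mapIso eQ ≪≫ eT) ≪≫
      (Scheme.Modules.pushforwardComp (Spec.map π) j).app T
  haveI : IsClosedImmersion i := .of_isPreimmersion i (by rw [hr]; exact hxc)
  refine ⟨BC8.isCoh_iso eP.symm (CohFound.isCoh_push_closedImm i hTc), fun y hy => hr ▸ CohFound.support_push_subset i T ?_⟩
  intro hs
  haveI : Subsingleton ((KFlat.Sch.stF y).obj ((Scheme.Modules.pushforward i).obj T)) := hs
  exact hy ((KFlat.Sch.stF y).mapIso eP).toLinearEquiv.toEquiv.subsingleton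

/-- The point inside an affine open. -/
theorem exists_point [X.IsSeparated] [IsLocallyNoetherian X] {x : X} (hx : IsClosed ({x} : Set X)) {U : X.Opens}
    (hU : IsAffineOpen U) (hxU : x ∈ U) :
    ∃ (m : Ideal Γ(X, U)) (hm : m.IsMaximal) (κ : ModuleCat.{u} Γ(X, U)), Fl m κ ∧ Nontrivial κ ∧
      (∀ r ∈ m, ∀ z : κ, r • z = 0) ∧ (∀ z : κ, z ≠ 0 → ∀ w : κ, ∃ a : Γ(X, U), a • z = w) ∧
      hU.fromSpec ⟨m, hm.isPrime⟩ = x ∧
      Nonempty ((Scheme.Modules.pushforward hU.fromSpec).obj ((tilde.functor Γ(X, U)).obj κ) ≅ KerId9.skyO x) := by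
  let K := X.residueField x
  let ψ : Γ(X, U) ⟶ K := X.presheaf.germ U x hxU ≫ X.residue x
  have hfac : Spec.map ψ ≫ hU.fromSpec = X.fromSpecResidueField x := by
    rw [Scheme.fromSpecResidueField, ← hU.fromSpecStalk_eq_fromSpecStalk hxU, IsAffineOpen.fromSpecStalk]
    simp only [ψ, Spec.map_comp, Category.assoc]
  haveI : IsClosedImmersion (X.fromSpecResidueField x) := isClosed_singleton_iff_isClosedImmersion.1 hx
  haveI : IsClosedImmersion (Spec.map ψ ≫ hU.fromSpec) := hfac ▸ inferInstance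
  haveI : IsClosedImmersion (Spec.map ψ) := IsClosedImmersion.of_comp (Spec.map ψ) hU.fromSpec
  have hsurj : Function.Surjective ψ.hom := by
    obtain ⟨_, h⟩ := IsClosedImmersion.isAffine_surjective_of_isAffine (Spec.map ψ)
    intro y
    obtain ⟨a, ha⟩ := h ((Scheme.ΓSpecIso K).inv.hom y)
    refine ⟨(Scheme.ΓSpecIso Γ(X, U)).hom.hom a, ?_⟩
    have e := congrArg (fun t => t.hom a) (Scheme.ΓSpecIso_naturality ψ)
    exact e.symm.trans ((congrArg (Scheme.ΓSpecIso K).hom.hom ha).trans
      ((Scheme.ΓSpecIso K).commRingCatIsoToRingEquiv.apply_symm_apply y))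
  let m : Ideal Γ(X, U) := RingHom.ker ψ.hom
  have hm : m.IsMaximal := RingHom.ker_isMaximal_of_surjective (K := ↥K) ψ.hom hsurj
  let KM : ModuleCat.{u} K := ModuleCat.of K K
  let κ : ModuleCat.{u} Γ(X, U) := (ModuleCat.restrictScalars ψ.hom).obj KM
  have hker : ∀ r ∈ m, ∀ z : κ, r • z = 0 := fun r hr z => by
    let z' : K := z
    show ψ.hom r * z' = (0 : K)
    rw [RingHom.mem_ker.1 hr, zero_mul]
  have hsimple : ∀ z : κ, z ≠ 0 → ∀ w : κ, ∃ a : Γ(X, U), a • z = w := fun z hz w => by
    let z' : K := z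
    let w' : K := w
    obtain ⟨a, ha⟩ := hsurj (w' * z'⁻¹)
    refine ⟨a, ?_⟩
    show ψ.hom a * z' = w'
    rw [ha, mul_assoc, inv_mul_cancel₀ (show z' ≠ 0 from hz), mul_one]
  haveI : Module.Finite Γ(X, U) κ := ⟨⟨{(show κ from (1 : K))}, by
    rw [Finset.coe_singleton, eq_top_iff]
    intro w _
    obtain ⟨a, ha⟩ := hsimple (show κ from (1 : K)) (one_ne_zero (α := K)) w
    exact Submodule.mem_span_singleton.2 ⟨a, ha⟩⟩⟩
  haveI : IsNoetherianRing K := inferInstanceAs (IsNoetherianRing ↥(X.residueField x))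
  haveI : Module.Finite K KM := inferInstanceAs (Module.Finite K K)
  have hz : hU.fromSpec ⟨m, hm.isPrime⟩ = x := by
    let s : Spec K := IsLocalRing.closedPoint K
    have h1 : (Spec.map ψ) s = ⟨m, hm.isPrime⟩ := PrimeSpectrum.ext (by
      show Ideal.comap ψ.hom (IsLocalRing.maximalIdeal K) = RingHom.ker ψ.hom
      rw [IsLocalRing.maximalIdeal_eq_bot]
      rfl)
    rw [← h1, ← Scheme.Hom.comp_apply, hfac, Scheme.fromSpecResidueField_apply]
  refine ⟨m, hm, κ, ⟨inferInstance, 1, fun r hr => hker r (by rwa [pow_one] at hr)⟩,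
    ⟨⟨(show κ from (1 : K)), 0, one_ne_zero (α := K)⟩⟩, hker, hsimple, hz, ⟨?_⟩⟩
  haveI : ((Scheme.Modules.pushforward (Spec.map ψ)).obj (Coh.structureModule (Spec K))).IsQuasicoherent :=
    M1.isQCoh_push (Spec.map ψ) (M1.isCoh_structureModule _).1
  let eO : (tilde.functor Γ(X, U)).obj κ ≅
      (Scheme.Modules.pushforward (Spec.map ψ)).obj (Coh.structureModule (Spec K)) :=
    (tilde.functor Γ(X, U)).mapIso (((M1.pushΓIso ψ).app (Coh.structureModule (Spec K)) ≪≫
      (ModuleCat.restrictScalars ψ.hom).mapIso ((moduleSpecΓFunctor.mapIso (tildeSelf (R := K)).symm) ≪≫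
        (tilde.toTildeΓNatIso.app KM).symm)).symm) ≪≫
      @asIso _ _ _ _ ((Scheme.Modules.pushforward (Spec.map ψ)).obj (Coh.structureModule (Spec K))).fromTildeΓ
        (Scheme.Modules.isIso_fromTildeΓ_of_isQuasicoherent (R := Γ(X, U)) _)
  exact (Scheme.Modules.pushforward hU.fromSpec).mapIso eO ≪≫
    (Scheme.Modules.pushforwardComp (Spec.map ψ) hU.fromSpec).app _ ≪≫
    (Scheme.Modules.pushforwardCongr hfac).app _

end Groth.Agent.PtFF9
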