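import Mathlib.Algebra.Homology.DerivedCategory.Ext.EnoughProjectives
import Mathlib.Algebra.Homology.DerivedCategory.SingleTriangle
import Mathlib.Algebra.Homology.DerivedCategory.TStructure
import Mathlib.Algebra.Homology.DerivedCategory.FullyFaithful
import Mathlib.Algebra.Homology.ShortComplex.ModuleCat
import Mathlib.Algebra.Category.ModuleCat.Abelian
import Mathlib.Algebra.Category.ModuleCat.Projective
import Mathlib.RingTheory.Filtration

/-! Classes out of modules killed by a power of an ideal are effaced by modules killed by a power of it. -/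

set_option autoImplicit false
set_option linter.unusedSectionVars false
set_option linter.style.haveILetI false
set_option backward.isDefEq.respectTransparency false
set_option maxHeartbeats 1600000

universe u

open CategoryTheory CategoryTheory.Limits CategoryTheory.Pretriangulated DerivedCategory

attribute [local instance] HasDerivedCategory.standard

noncomputable section

namespace Groth.Agent.PtFF9

variable {A : Type u} [CommRing A] [IsNoetherianRing A] (m : Ideal A) (κ : ModuleCat.{u} A)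

/-- A module as an object of the derived category. -/
abbrev sgl (M : ModuleCat.{u} A) : DerivedCategory (ModuleCat.{u} A) :=
  (singleFunctor (ModuleCat.{u} A) 0).obj M

/-- A map of modules in the derived category. -/
abbrev sglMap {M N : ModuleCat.{u} A} (f : M ⟶ N) : sgl M ⟶ sgl N :=
  (singleFunctor (ModuleCat.{u} A) 0).map f

theorem isLE_shift (M : ModuleCat.{u} A) (a : ℤ) : ((sgl M)⟦a⟧).IsLE (-a) :=
  TStructure.t.isLE_shift (sgl M) 0 a (-a) (by omega)

theorem isGE_shift (M : ModuleCat.{u} A) (a : ℤ) : ((sgl M)⟦a⟧).IsGE (-a) :=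
  TStructure.t.isGE_shift (sgl M) 0 a (-a) (by omega)

/-- No maps to a lower degree. -/
theorem eq_zero_of_neg {M : ModuleCat.{u} A} {a : ℤ} (ha : 0 < a) (φ : (sgl M)⟦a⟧ ⟶ sgl κ) : φ = 0 := by
  haveI := isLE_shift M a
  exact TStructure.t.zero φ (-a) 0 (by omega)

/-- No classes of positive degree out of a projective module. -/
theorem eq_zero_of_projective {L : ModuleCat.{u} A} [Projective L] {a : ℤ} (ha : 0 < a) (φ : sgl L ⟶ (sgl κ)⟦a⟧) :
    φ = 0 := by
  haveI := isLE_shift κ a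
  obtain ⟨K, _, ⟨e⟩⟩ := exists_iso_Q_obj_of_isLE ((sgl κ)⟦a⟧) (-a)
  let i := (singleFunctorIsoCompQ (ModuleCat.{u} A) 0).app L
  have h : i.inv ≫ φ ≫ e.hom = 0 := from_singleFunctor_obj_eq_zero_of_projective _ (-a) (by omega)
  rw [← cancel_epi i.inv, ← cancel_mono e.hom, Category.assoc, h, comp_zero, zero_comp]

/-- The class of a map of short exact sequences. -/
theorem comp_eq_zero_of_map {S₁ S₂ : ShortComplex (ModuleCat.{u} A)} (h₁ : S₁.ShortExact) (h₂ : S₂.ShortExact)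
    (f : S₁ ⟶ S₂) {a : ℤ} (η : (sgl S₂.X₁)⟦(1 : ℤ)⟧ ⟶ (sgl κ)⟦a⟧)
    (hη : (shiftFunctor _ (1 : ℤ)).map (sglMap f.τ₁) ≫ η = 0) : sglMap f.τ₃ ≫ h₂.singleδ ≫ η = 0 := by
  have hc : h₁.singleδ ≫ (shiftFunctor _ (1 : ℤ)).map (sglMap f.τ₁) = sglMap f.τ₃ ≫ h₂.singleδ :=
    (ShortComplex.ShortExact.singleTriangle.map h₁ h₂ f).comm₃
  rw [← Category.assoc, ← hc, Category.assoc, hη, comp_zero]

/-- The elements of `m ^ r • M`, as a module. -/
abbrev pw (r : ℕ) (M : ModuleCat.{u} A) : ModuleCat.{u} A := ModuleCat.of A ↥(m ^ r • ⊤ : Submodule A M)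

/-- The inclusion of `m ^ r • M`. -/
abbrev pwι (r : ℕ) (M : ModuleCat.{u} A) : pw m r M ⟶ M := ModuleCat.ofHom (m ^ r • ⊤ : Submodule A M).subtype

/-- A finite free cover. -/
theorem exists_cover (M : ModuleCat.{u} A) [Module.Finite A M] :
    ∃ (L : ModuleCat.{u} A) (q : L →ₗ[A] M), Projective L ∧ Module.Finite A L ∧ Function.Surjective q := by
  obtain ⟨n, q, hq⟩ := Module.Finite.exists_fin' A M
  exact ⟨ModuleCat.of A (Fin n → A), q, (IsProjective.iff_projective (R := A) (Fin n → A)).1 inferInstance,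
    inferInstanceAs (Module.Finite A (Fin n → A)), hq⟩

section Step

variable {M L : ModuleCat.{u} A} (q : L →ₗ[A] M) (hq : Function.Surjective q)

include hq in
theorem exists_eta [Projective L] {a : ℤ} (ha : 0 < a) (ξ : sgl M ⟶ (sgl κ)⟦a⟧) :
    ∃ η₀ : sgl (ModuleCat.of A ↥(LinearMap.ker q)) ⟶ (sgl κ)⟦a - 1⟧, ∃ c : ((sgl κ)⟦a - 1⟧)⟦(1 : ℤ)⟧ ≅ (sgl κ)⟦a⟧,
      ξ = (LinearMap.shortExact_shortComplexKer hq).singleδ ≫ (shiftFunctor _ (1 : ℤ)).map η₀ ≫ c.hom := by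
  let h := LinearMap.shortExact_shortComplexKer hq
  have h0 : h.singleTriangle.mor₂ ≫ ξ = 0 := eq_zero_of_projective κ ha _
  obtain ⟨η, hη⟩ := Triangle.yoneda_exact₃ _ h.singleTriangle_distinguished ξ h0
  let c : ((sgl κ)⟦a - 1⟧)⟦(1 : ℤ)⟧ ≅ (sgl κ)⟦a⟧ :=
    ((shiftFunctorAdd' (DerivedCategory (ModuleCat.{u} A)) (a - 1) 1 a (by omega)).app (sgl κ)).symm
  obtain ⟨η₀, hη₀⟩ := (shiftFunctor (DerivedCategory (ModuleCat.{u} A)) (1 : ℤ)).map_surjective (η ≫ c.inv)
  refine ⟨η₀, c, hη.trans ?_⟩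
  rw [hη₀, Category.assoc, Iso.inv_hom_id, Category.comp_id]
  rfl

end Step

/-- A class vanishing on `m ^ r₀` times the kernel dies on sequences deep enough in the cover. -/
theorem exists_deep (n : ℕ) (hκ : ∀ r ∈ m, ∀ z : κ, r • z = 0) (M : ModuleCat.{u} A) [Module.Finite A M]
    (ξ : sgl M ⟶ (sgl κ)⟦(n : ℤ)⟧) : ∃ r : ℕ, sglMap (pwι m r M) ≫ ξ = 0 := by
  induction n generalizing M with
  | zero =>
    refine ⟨1, ?_⟩
    let e : (sgl κ)⟦((0 : ℕ) : ℤ)⟧ ≅ sgl κ := (shiftFunctorZero' _ _ Nat.cast_zero).app _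
    obtain ⟨g, hg⟩ := (singleFunctor (ModuleCat.{u} A) 0).map_surjective (ξ ≫ e.hom)
    have hz : pwι m 1 M ≫ g = 0 := ModuleCat.hom_ext (LinearMap.ext fun z => by
      show g.hom z.1 = 0
      refine Submodule.smul_induction_on z.2 (fun r hr x _ => ?_) (fun x y hx hy => ?_)
      · rw [map_smul, hκ r (by rwa [pow_one] at hr)]
      · rw [map_add, hx, hy, add_zero])
    rw [← cancel_mono e.hom, Category.assoc, ← hg, ← Functor.map_comp, hz, Functor.map_zero, zero_comp]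
  | succ n ih =>
    obtain ⟨L, q, _, _, hq⟩ := exists_cover M
    haveI : Module.Finite A ↥(LinearMap.ker q) := Module.Finite.iff_fg.2 (IsNoetherian.noetherian _)
    obtain ⟨η₀, c, hξ⟩ := exists_eta κ q hq (a := ((n + 1 : ℕ) : ℤ)) (by omega) ξ
    let Z := ModuleCat.of A ↥(LinearMap.ker q)
    let d : (sgl κ)⟦((n + 1 : ℕ) : ℤ) - 1⟧ ≅ (sgl κ)⟦(n : ℤ)⟧ := eqToIso (by congr 2; omega)
    obtain ⟨r₀, hr₀⟩ := ih Z (η₀ ≫ d.hom)
    have hr₁ : sglMap (pwι m r₀ Z) ≫ η₀ = 0 := by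
      rw [← cancel_mono d.hom, Category.assoc, hr₀, zero_comp]
    obtain ⟨k, hk⟩ := m.exists_pow_inf_eq_pow_smul (LinearMap.ker q)
    let r := k + r₀
    have hin : ∀ z : ↥(m ^ r • ⊤ : Submodule A L), ∀ hz : z.1 ∈ LinearMap.ker q,
        (⟨z.1, hz⟩ : LinearMap.ker q) ∈ (m ^ r₀ • ⊤ : Submodule A (LinearMap.ker q)) := fun z hz => by
      have h1 : z.1 ∈ m ^ r₀ • LinearMap.ker q := by
        have h2 : z.1 ∈ m ^ (r - k) • (m ^ k • ⊤ ⊓ LinearMap.ker q) := hk r (by omega) ▸ ⟨z.2, hz⟩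
        rw [show r - k = r₀ by omega] at h2
        exact Submodule.smul_mono le_rfl inf_le_right h2
      rw [← Submodule.map_subtype_top (LinearMap.ker q), ← Submodule.map_smul'', Submodule.mem_map] at h1
      obtain ⟨w, hw, he⟩ := h1
      obtain rfl : w = ⟨z.1, hz⟩ := Subtype.ext he
      exact hw
    refine ⟨r, ?_⟩
    have hmap : Submodule.map q (m ^ r • ⊤ : Submodule A L) = (m ^ r • ⊤ : Submodule A M) := by
      rw [Submodule.map_smul'', Submodule.map_top, LinearMap.range_eq_top.2 hq]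
    let q' : ↥(m ^ r • ⊤ : Submodule A L) →ₗ[A] ↥(m ^ r • ⊤ : Submodule A M) :=
      q.restrict fun z hz => hmap ▸ Submodule.mem_map_of_mem hz
    have hq' : Function.Surjective q' := fun ⟨y, hy⟩ => by
      obtain ⟨z, hz, he⟩ := Submodule.mem_map.1 (hmap.symm ▸ hy)
      exact ⟨⟨z, hz⟩, Subtype.ext he⟩
    let τ₁ : ↥(LinearMap.ker q') →ₗ[A] ↥(LinearMap.ker q) :=
      ((m ^ r • ⊤ : Submodule A L).subtype ∘ₗ (LinearMap.ker q').subtype).codRestrict _
        fun z => congrArg Subtype.val (LinearMap.mem_ker.1 z.2)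
    let τ₁' : ↥(LinearMap.ker q') →ₗ[A] ↥(m ^ r₀ • ⊤ : Submodule A (LinearMap.ker q)) :=
      τ₁.codRestrict _ fun z => hin z.1 _
    let f : q'.shortComplexKer ⟶ q.shortComplexKer :=
      { τ₁ := ModuleCat.ofHom τ₁
        τ₂ := pwι m r L
        τ₃ := pwι m r M
        comm₁₂ := rfl
        comm₂₃ := rfl }
    rw [hξ]
    refine comp_eq_zero_of_map κ (LinearMap.shortExact_shortComplexKer hq') (LinearMap.shortExact_shortComplexKer hq) f _ ?_
    rw [← Category.assoc, ← Functor.map_comp]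
    have hf : sglMap f.τ₁ ≫ η₀ = 0 := by
      have he : f.τ₁ = (ModuleCat.ofHom τ₁' : _ ⟶ pw m r₀ Z) ≫ pwι m r₀ Z := rfl
      rw [he]
      refine ((congrArg (fun t => t ≫ η₀) (Functor.map_comp _ _ _)).trans (Category.assoc _ _ _)).trans ?_
      rw [hr₁, comp_zero]
    rw [hf, Functor.map_zero, zero_comp]

/-- Classes of positive degree out of a module killed by a power of `m` are effaced by one. -/
theorem exists_efface (n : ℕ) (hκ : ∀ r ∈ m, ∀ z : κ, r • z = 0) (M : ModuleCat.{u} A) [Module.Finite A M] (s : ℕ)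
    (hs : ∀ r ∈ m ^ s, ∀ z : M, r • z = 0) (ξ : sgl M ⟶ (sgl κ)⟦((n + 1 : ℕ) : ℤ)⟧) :
    ∃ (N : ModuleCat.{u} A) (t : ℕ) (p : N →ₗ[A] M), Module.Finite A N ∧ (∀ r ∈ m ^ t, ∀ z : N, r • z = 0) ∧
      Function.Surjective p ∧ sglMap (ModuleCat.ofHom p) ≫ ξ = 0 := by
  obtain ⟨L, q, _, _, hq⟩ := exists_cover M
  haveI : Module.Finite A ↥(LinearMap.ker q) := Module.Finite.iff_fg.2 (IsNoetherian.noetherian _)
  obtain ⟨η₀, c, hξ⟩ := exists_eta κ q hq (a := ((n + 1 : ℕ) : ℤ)) (by omega) ξ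
  let Z := ModuleCat.of A ↥(LinearMap.ker q)
  let d : (sgl κ)⟦((n + 1 : ℕ) : ℤ) - 1⟧ ≅ (sgl κ)⟦(n : ℤ)⟧ := eqToIso (by congr 2; omega)
  obtain ⟨r₀, hr₀⟩ := exists_deep m κ n hκ Z (η₀ ≫ d.hom)
  have hr₁ : sglMap (pwι m r₀ Z) ≫ η₀ = 0 := by
    rw [← cancel_mono d.hom, Category.assoc, hr₀, zero_comp]
  obtain ⟨k, hk⟩ := m.exists_pow_inf_eq_pow_smul (LinearMap.ker q)
  let t := k + r₀ + s
  let W : Submodule A L := m ^ t • ⊤
  have hWker : W ≤ LinearMap.ker q := Submodule.smul_le.2 fun r hr x _ => by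
    rw [LinearMap.mem_ker, map_smul]
    exact hs r (Ideal.pow_le_pow_right (by omega) hr) _
  have hin : ∀ (z : L) (hz : z ∈ W),
      (⟨z, hWker hz⟩ : LinearMap.ker q) ∈ (m ^ r₀ • ⊤ : Submodule A (LinearMap.ker q)) := fun z hz => by
    have h1 : z ∈ m ^ r₀ • LinearMap.ker q := by
      have h2 : z ∈ m ^ (t - k) • (m ^ k • ⊤ ⊓ LinearMap.ker q) := hk t (by omega) ▸ ⟨hz, hWker hz⟩
      exact Submodule.smul_mono (Ideal.pow_le_pow_right (by omega)) inf_le_right h2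
    rw [← Submodule.map_subtype_top (LinearMap.ker q), ← Submodule.map_smul'', Submodule.mem_map] at h1
    obtain ⟨w, hw, he⟩ := h1
    obtain rfl : w = ⟨z, hWker hz⟩ := Subtype.ext he
    exact hw
  let N := ModuleCat.of A (L ⧸ W)
  let p : (L ⧸ W) →ₗ[A] M := W.liftQ q hWker
  refine ⟨N, t, p, inferInstanceAs (Module.Finite A (L ⧸ W)), fun r hr z => ?_, fun y => ?_, ?_⟩
  · obtain ⟨x, rfl⟩ := Submodule.Quotient.mk_surjective W z
    exact (Submodule.Quotient.mk_eq_zero W).2 (Submodule.smul_mem_smul hr Submodule.mem_top)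
  · obtain ⟨x, hx⟩ := hq y
    exact ⟨Submodule.Quotient.mk x, hx⟩
  have hmk : Function.Surjective W.mkQ := Submodule.mkQ_surjective W
  let τ₁' : ↥(LinearMap.ker W.mkQ) →ₗ[A] ↥(m ^ r₀ • ⊤ : Submodule A (LinearMap.ker q)) :=
    ((LinearMap.ker W.mkQ).subtype.codRestrict (LinearMap.ker q)
      fun z => hWker ((Submodule.ker_mkQ W).le z.2)).codRestrict _
      fun z => hin z.1 ((Submodule.ker_mkQ W).le z.2)
  let f : W.mkQ.shortComplexKer ⟶ q.shortComplexKer :=
    { τ₁ := ModuleCat.ofHom τ₁' ≫ pwι m r₀ Z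
      τ₂ := 𝟙 _
      τ₃ := ModuleCat.ofHom p
      comm₁₂ := rfl
      comm₂₃ := rfl }
  rw [hξ]
  refine comp_eq_zero_of_map κ (LinearMap.shortExact_shortComplexKer hmk) (LinearMap.shortExact_shortComplexKer hq) f _ ?_
  rw [← Category.assoc, ← Functor.map_comp]
  have hf : sglMap f.τ₁ ≫ η₀ = 0 := by
    refine ((congrArg (fun x => x ≫ η₀) (Functor.map_comp _ _ _)).trans (Category.assoc _ _ _)).trans ?_
    rw [hr₁, comp_zero]
  rw [hf, Functor.map_zero, zero_comp]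

end Groth.Agent.PtFF9
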