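import Groth.Agent.Lib.BvdB9.Span

/-! The essential image of a fully faithful functor agreeing with another on point sheaves. -/

set_option autoImplicit false
set_option linter.unusedSectionVars false
set_option linter.style.haveILetI false
set_option backward.isDefEq.respectTransparency false
set_option backward.isDefEq.respectTransparency.types false
set_option maxHeartbeats 1600000

universe u

open CategoryTheory CategoryTheory.Limits AlgebraicGeometry CategoryTheory.Pretriangulated
open Groth.Agent.BvdB9 (ptObj ptSet)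

attribute [local instance] HasDerivedCategory.standard

noncomputable section

namespace Groth.Agent.PtFF9

variable (k : Type u) [Field k] {X : Scheme.{u}} [X.Over (Spec (CommRingCat.of k))]
  [IsProper (X ↘ Spec (CommRingCat.of k))] (hreg : Models.IsRegularScheme X)
  [(SGA6.perfP X).IsTriangulated]

include k hreg in
/-- An object receiving no maps from point sheaves is zero. -/
theorem isZero_of_pts (K : (SGA6.perfP X).FullSubcategory)
    (hK : ∀ E ∈ ptSet X, ∀ (i : ℤ) (f : E ⟶ K⟦i⟧), f = 0) : IsZero K := by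
  haveI : CompactSpace X := QuasiCompact.compactSpace_of_compactSpace (X ↘ Spec (CommRingCat.of k))
  let ι := ObjectProperty.ι (SGA6.perfP X)
  refine IsZero.of_full_of_faithful_of_isZero ι K (BvdB9.isZero_of_nhds k fun x hx => ?_)
  refine (S6720.result k X hreg x hx K.obj K.property).1 fun i φ => ?_
  let E : (SGA6.perfP X).FullSubcategory := ⟨ptObj x, BvdB9.isPerfect_ptObj k hreg hx⟩
  let ψ : E ⟶ K⟦i⟧ := (ObjectProperty.fullyFaithfulι _).preimage (φ ≫ ((ι.commShiftIso i).app K).inv :)
  have h0 : ψ = 0 := hK E ⟨x, _, hx, rfl⟩ i ψ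
  have h1 : φ ≫ ((ι.commShiftIso i).app K).inv = 0 := by
    rw [← (ObjectProperty.fullyFaithfulι _).map_preimage (X := E) (Y := K⟦i⟧) (φ ≫ ((ι.commShiftIso i).app K).inv :)]
    show ι.map ψ = 0
    rw [h0, Functor.map_zero]
  exact (cancel_mono ((ι.commShiftIso i).app K).inv).1 (h1.trans zero_comp.symm)

variable {Y : Scheme.{u}} [Y.Over (Spec (CommRingCat.of k))] [IsProper (Y ↘ Spec (CommRingCat.of k))]
  [(SGA6.perfP Y).IsTriangulated]
  (F : (SGA6.perfP X).FullSubcategory ⥤ (SGA6.perfP Y).FullSubcategory) [F.Additive] [F.Linear k]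
  [F.CommShift ℤ] [F.IsTriangulated] [F.Full] [F.Faithful]
  (G : (SGA6.perfP X).FullSubcategory ⥤ (SGA6.perfP Y).FullSubcategory) [G.Additive] [G.Linear k]
  [G.CommShift ℤ] [G.IsTriangulated]

include k hreg in
theorem mem_essImage (h1 : ∀ E ∈ ptSet X, Nonempty (F.obj E ≅ G.obj E)) (M : (SGA6.perfP X).FullSubcategory) :
    F.essImage (G.obj M) := by
  haveI := (BvdB9.adjoints k hreg F).1
  haveI := (BvdB9.adjoints k hreg G).1
  let adj := Adjunction.ofIsLeftAdjoint F
  let adjG := Adjunction.ofIsLeftAdjoint G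
  let K := F.rightAdjoint.obj (G.obj M)
  let ε : F.obj K ⟶ G.obj M := adj.counit.app (G.obj M)
  obtain ⟨C, q, r, hT⟩ := distinguished_cocone_triangle ε
  have hbij : ∀ E, Function.Bijective fun f : E ⟶ K => F.map f ≫ ε := fun E => by
    have : (fun f : E ⟶ K => F.map f ≫ ε) = fun f => (adj.homEquiv E (G.obj M)).symm f :=
      funext fun f => (adj.homEquiv_counit _ _ _).symm
    rw [this]
    exact Equiv.bijective _
  have hker : ∀ E (w : F.obj E ⟶ F.obj K), w ≫ ε = 0 → w = 0 := fun E w hw => by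
    obtain ⟨f, rfl⟩ := F.map_surjective w
    rw [(hbij E).1 (show F.map f ≫ ε = F.map 0 ≫ ε by rw [hw, F.map_zero, zero_comp]), F.map_zero]
  have hF : ∀ E (u : F.obj E ⟶ C), u = 0 := fun E u => by
    let S := shiftFunctor (SGA6.perfP Y).FullSubcategory (1 : ℤ)
    let E' := E⟦(-1 : ℤ)⟧
    let c : (F.obj E')⟦(1 : ℤ)⟧ ≅ F.obj E :=
      ((F.commShiftIso (1 : ℤ)).app E').symm ≪≫
        F.mapIso ((shiftFunctorCompIsoId _ (-1 : ℤ) 1 (by omega)).app E)
    obtain ⟨w, hw⟩ := S.map_surjective (c.hom ≫ u ≫ r)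
    have hw0 : w = 0 := hker E' w (S.map_injective (by
      rw [S.map_comp, S.map_zero]
      refine (congrArg (· ≫ S.map ε) hw).trans ?_
      simp only [Category.assoc]
      rw [show r ≫ S.map ε = 0 from comp_distTriang_mor_zero₃₁ _ hT, comp_zero, comp_zero]))
    have hur : u ≫ r = 0 := by
      rw [← cancel_epi c.hom, ← hw, hw0, S.map_zero]
      exact comp_zero.symm
    obtain ⟨b, hb⟩ := Triangle.coyoneda_exact₃ _ hT u hur
    obtain ⟨f, rfl⟩ := (hbij E).2 b
    rw [hb]
    exact (Category.assoc _ _ _).trans ((congrArg (F.map f ≫ ·) (comp_distTriang_mor_zero₁₂ _ hT)).trans comp_zero)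
  have hz : IsZero (G.rightAdjoint.obj C) := by
    refine isZero_of_pts k hreg _ fun E hE i f => ?_
    obtain ⟨e⟩ := h1 E hE
    let S := shiftFunctor (SGA6.perfP X).FullSubcategory (-i)
    let c := (shiftFunctorCompIsoId (SGA6.perfP X).FullSubcategory i (-i) (add_neg_cancel i)).app (G.rightAdjoint.obj C)
    let eq : F.obj (S.obj E) ≅ G.obj (S.obj E) :=
      (F.commShiftIso (-i)).app E ≪≫ (shiftFunctor _ (-i)).mapIso e ≪≫ ((G.commShiftIso (-i)).app E).symm
    have h2 : (adjG.homEquiv (S.obj E) C).symm (S.map f ≫ c.hom) = 0 := by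
      rw [← cancel_epi eq.hom, comp_zero]
      exact hF _ _
    have h3 : S.map f ≫ c.hom = 0 := by
      refine (adjG.homEquiv (S.obj E) C).symm.injective (h2.trans ?_)
      rw [adjG.homEquiv_counit, Functor.map_zero, zero_comp]
    exact S.map_injective ((cancel_mono c.hom).1 (h3.trans (by rw [Functor.map_zero, zero_comp])))
  have hq : q = 0 := by
    refine (adjG.homEquiv M C).injective ?_
    exact hz.eq_of_tgt _ _
  obtain ⟨s, hs⟩ := Triangle.yoneda_exact₃ _ hT (𝟙 C) (by
    show q ≫ 𝟙 C = 0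
    rw [hq, zero_comp])
  have hs0 : s = 0 := by
    refine (cancel_epi ((F.commShiftIso (1 : ℤ)).hom.app K)).1 ?_
    rw [comp_zero]
    exact hF _ _
  have hC : IsZero C := (IsZero.iff_id_eq_zero C).2 (by rw [hs, hs0, comp_zero])
  haveI : IsIso ε := (Triangle.isZero₃_iff_isIso₁ _ hT).1 hC
  exact ⟨K, ⟨asIso ε⟩⟩

end Groth.Agent.PtFF9
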