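import Mathlib.CategoryTheory.Triangulated.Pretriangulated
import Mathlib.CategoryTheory.Shift.CommShift
import Mathlib.CategoryTheory.Linear.LinearFunctor
import Mathlib.LinearAlgebra.FiniteDimensional.Lemmas
import Mathlib.CategoryTheory.Triangulated.Functor

/-! Bijectivity of a functor on morphisms, moved around. -/

set_option autoImplicit false
set_option linter.unusedSectionVars false

universe w v u v' u'

open CategoryTheory CategoryTheory.Limits CategoryTheory.Pretriangulated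

namespace Groth.Agent.PtFF9

variable {C : Type u} [Category.{v} C] {D : Type u'} [Category.{v'} D] (F : C ⥤ D)

/-- Bijective on the maps from `a` to `b`. -/
def Bij (a b : C) : Prop := Function.Bijective fun f : a ⟶ b => F.map f

variable {F}

theorem bij_congr {a a' b b' : C} (e : a ≅ a') (e' : b ≅ b') (h : Bij F a b) : Bij F a' b' := by
  refine ⟨fun f g hfg => ?_, fun y => ?_⟩
  · rw [← cancel_epi e.hom, ← cancel_mono e'.inv]
    refine h.1 ?_
    dsimp only at hfg ⊢
    rw [F.map_comp, F.map_comp, F.map_comp, F.map_comp, hfg]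
  · obtain ⟨f, hf⟩ := h.2 (F.map e.hom ≫ y ≫ F.map e'.inv)
    refine ⟨e.inv ≫ f ≫ e'.hom, ?_⟩
    dsimp only at hf ⊢
    simp only [F.map_comp, hf, Category.assoc, ← F.map_comp_assoc, ← F.map_comp, Iso.inv_hom_id,
      CategoryTheory.Functor.map_id, Category.id_comp, Category.comp_id]

variable [Preadditive C] [Preadditive D] [F.Additive]

theorem bij_of_zero (a b : C) (h : ∀ f : a ⟶ b, f = 0) (h' : ∀ g : F.obj a ⟶ F.obj b, g = 0) : Bij F a b :=
  ⟨fun f g _ => (h f).trans (h g).symm, fun y => ⟨0, (h' _).trans (h' y).symm⟩⟩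

theorem bij_of_injective (k : Type w) [Field k] [Linear k C] [Linear k D] [F.Linear k] (a b : C)
    [Module.Finite k (a ⟶ b)] (e : (F.obj a ⟶ F.obj b) ≃ₗ[k] (a ⟶ b))
    (h : ∀ f : a ⟶ b, F.map f = 0 → f = 0) : Bij F a b := by
  haveI : Module.Finite k (F.obj a ⟶ F.obj b) := Module.Finite.equiv e.symm
  let L : (a ⟶ b) →ₗ[k] (F.obj a ⟶ F.obj b) := F.mapLinearMap k
  have hinj : Function.Injective L := (injective_iff_map_eq_zero L).2 h
  exact ⟨hinj, (LinearMap.injective_iff_surjective_of_finrank_eq_finrank e.finrank_eq.symm).1 hinj⟩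

variable [HasShift C ℤ] [HasShift D ℤ] [F.CommShift ℤ]

theorem bij_shift {a b : C} (n : ℤ) (h : Bij F a b) : Bij F (a⟦n⟧) (b⟦n⟧) := by
  let c := F.commShiftIso n
  have key : ∀ f : a ⟶ b, F.map (f⟦n⟧') = c.hom.app a ≫ (F.map f)⟦n⟧' ≫ c.inv.app b := fun f => by
    rw [← Category.assoc]
    erw [← c.hom.naturality f]
    rw [Category.assoc]
    erw [c.hom_inv_id_app b]
    exact (Category.comp_id _).symm
  refine ⟨fun f g hfg => ?_, fun y => ?_⟩
  · obtain ⟨f, rfl⟩ := (shiftFunctor C n).map_surjective f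
    obtain ⟨g, rfl⟩ := (shiftFunctor C n).map_surjective g
    dsimp only at hfg
    rw [key, key, cancel_epi, cancel_mono] at hfg
    exact congrArg _ (h.1 ((shiftFunctor D n).map_injective hfg))
  · obtain ⟨z, hz⟩ := (shiftFunctor D n).map_surjective (c.inv.app a ≫ y ≫ c.hom.app b)
    obtain ⟨f, hf⟩ := h.2 z
    refine ⟨f⟦n⟧', ?_⟩
    dsimp only at hf ⊢
    rw [key, hf, hz]
    simp [c]

variable [HasZeroObject C] [HasZeroObject D] [∀ n : ℤ, (shiftFunctor C n).Additive]
  [∀ n : ℤ, (shiftFunctor D n).Additive] [Pretriangulated C] [Pretriangulated D] [F.IsTriangulated]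

/-- The effacement step. -/
theorem eq_zero_step (T : Triangle C) (hT : T ∈ distTriang C) {t : C} (hi : Bij F (T.obj₁⟦(1 : ℤ)⟧) t)
    (hs : Bij F (T.obj₂⟦(1 : ℤ)⟧) t) (ξ : T.obj₃ ⟶ t) (h0 : T.mor₂ ≫ ξ = 0) (hξ : F.map ξ = 0) : ξ = 0 := by
  obtain ⟨η, rfl⟩ := Triangle.yoneda_exact₃ _ hT ξ h0
  have hR := rot_of_distTriang _ (rot_of_distTriang _ hT)
  have hFR := F.map_distinguished _ hR
  have hex : ∃ y : F.obj (T.obj₂⟦(1 : ℤ)⟧) ⟶ F.obj t, F.map η = F.map T.rotate.rotate.mor₂ ≫ y :=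
    Triangle.yoneda_exact₂ _ hFR (F.map η) (by
      show F.map T.mor₃ ≫ F.map η = 0
      rw [← F.map_comp]
      exact hξ)
  obtain ⟨y, hy⟩ := hex
  obtain ⟨η', hη'⟩ := hs.2 y
  have hη : η = T.rotate.rotate.mor₂ ≫ η' := hi.1 (by
    show F.map η = F.map (T.rotate.rotate.mor₂ ≫ η')
    rw [F.map_comp, hy]
    exact congrArg (F.map T.rotate.rotate.mor₂ ≫ ·) hη'.symm)
  rw [hη]
  exact (Category.assoc _ _ _).symm.trans ((congrArg (· ≫ η') (comp_distTriang_mor_zero₁₂ _ hR)).trans zero_comp)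

end Groth.Agent.PtFF9
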