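import Groth.Agent.Lib.PtFF9.Chart
import Groth.Agent.Lib.PtFF9.Steps
import Groth.Agent.Lib.BvdB9.Span
import Groth.Agent.Lib.PtSky9.Sky
import Groth.Agent.Lib.LimFun.Basic

/-! A functor fixing the sheaves with finite support is fully faithful on point sheaves. -/

set_option autoImplicit false
set_option linter.unusedSectionVars false
set_option linter.style.haveILetI false
set_option backward.isDefEq.respectTransparency false
set_option backward.isDefEq.respectTransparency.types false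
set_option maxHeartbeats 3200000

universe u

open CategoryTheory CategoryTheory.Limits AlgebraicGeometry CategoryTheory.Pretriangulated
open Groth.Agent.BvdB9 (ptObj)

attribute [local instance] HasDerivedCategory.standard
attribute [local instance] Groth.Agent.DBC9.hasRpush

noncomputable section

namespace Groth.Agent.PtFF9

variable (k : Type u) [Field k] {X : Scheme.{u}} [X.Over (Spec (CommRingCat.of k))]
  [IsProper (X ↘ Spec (CommRingCat.of k))] (hreg : Models.IsRegularScheme X)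
  [(SGA6.perfP X).IsTriangulated]
  (F : (SGA6.perfP X).FullSubcategory ⥤ (SGA6.perfP X).FullSubcategory) [F.Additive] [F.Linear k]
  [F.CommShift ℤ] [F.IsTriangulated]
  (h : ∀ (M : X.Modules), Coh.IsCoh M → (CohB1.support M).Finite → (CohB1.support M).Nonempty →
      (∀ x ∈ CohB1.support M, IsClosed ({x} : Set X)) →
      ∀ (hM : DCoh.IsPerfect (DCoh.inD X M)),
        Nonempty ((⟨DCoh.inD X M, hM⟩ : (SGA6.perfP X).FullSubcategory) ≅ F.obj ⟨DCoh.inD X M, hM⟩))

include h in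
theorem nonempty_fix {M : X.Modules} (hc : Coh.IsCoh M) {x : X} (hx : IsClosed ({x} : Set X))
    (hs : CohB1.support M ⊆ {x}) (hM : DCoh.IsPerfect (DCoh.inD X M)) :
    Nonempty ((⟨DCoh.inD X M, hM⟩ : (SGA6.perfP X).FullSubcategory) ≅ F.obj ⟨DCoh.inD X M, hM⟩) := by
  rcases (CohB1.support M).eq_empty_or_nonempty with he | hne
  · have hz : IsZero (⟨DCoh.inD X M, hM⟩ : (SGA6.perfP X).FullSubcategory) :=
      IsZero.of_full_of_faithful_of_isZero (ObjectProperty.ι (SGA6.perfP X)) _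
        ((DerivedCategory.singleFunctor X.Modules 0).map_isZero (LimFun.isZero_of_support_eq_empty he))
    exact ⟨hz.iso (F.map_isZero hz)⟩
  · exact h M hc ((Set.finite_singleton x).subset hs) hne (fun y hy => (show y = x from hs hy) ▸ hx) hM

include k hreg h in
theorem bij_nat {x : X} (hx : IsClosed ({x} : Set X)) (hp : DCoh.IsPerfect (ptObj x)) (n : ℕ) :
    Bij F (⟨ptObj x, hp⟩ : (SGA6.perfP X).FullSubcategory)
      ((⟨ptObj x, hp⟩ : (SGA6.perfP X).FullSubcategory)⟦(n : ℤ)⟧) := by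
  let ff := X ↘ Spec (CommRingCat.of k)
  haveI : IsLocallyNoetherian X := LocallyOfFiniteType.isLocallyNoetherian ff
  haveI : X.IsSeparated := (Scheme.isSeparated_iff X).2 (by
    rw [← terminal.comp_from ff]; infer_instance)
  obtain ⟨U, hU, hxU, -⟩ := exists_isAffineOpen_mem_and_subset (X := X) (x := x) (U := ⊤) trivial
  obtain ⟨m, hm, κ, hκ, hκne, hκm, hκs, hz, ⟨eS⟩⟩ := exists_point hx hU hxU
  let A := Γ(X, U)
  haveI : IsNoetherianRing A := IsLocallyNoetherian.component_noetherian ⟨U, hU⟩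
  haveI := hm
  let j := hU.fromSpec
  haveI : IsAffineHom j := by
    haveI : IsAffine (Spec A) := inferInstance
    haveI : IsAffineHom (j ≫ terminal.from X) := by
      rw [terminal.comp_from]
      infer_instance
    exact IsAffineHom.of_comp j (terminal.from X)
  haveI : CompactSpace X := QuasiCompact.compactSpace_of_compactSpace ff
  haveI : AlgebraicGeometry.IsNoetherian X := { }
  obtain ⟨cs, hcs⟩ := DPush.exists_commShift_isTriangulated j
  letI := cs
  haveI := hcs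
  let Φ : DerivedCategory (ModuleCat.{u} A) ⥤ DCoh.D X := DPerf.tildeDD A ⋙ DCoh.Rpush j
  haveI : Φ.Full := ⟨fun {a b} => (bijective_phi j a b).2⟩
  haveI : Φ.Faithful := ⟨fun {a b} _ _ hfg => (bijective_phi j a b).1 hfg⟩
  let ι := ObjectProperty.ι (SGA6.perfP X)
  let tl : ModuleCat.{u} A → X.Modules := fun M =>
    (Scheme.Modules.pushforward j).obj ((tilde.functor A).obj M)
  have hcoh : ∀ M, Fl m M → Coh.IsCoh (tl M) ∧ CohB1.support (tl M) ⊆ {x} := fun M hM => by
    have := coh_of_fl j m (by rw [hz]; exact hx) hM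
    rwa [hz] at this
  have hperf : ∀ M, Fl m M → DCoh.IsPerfect (Φ.obj (sgl M)) := fun M hM => by
    obtain ⟨e⟩ := nonempty_phi_sgl j M
    exact DGen9.isPerfect_of_iso e.symm (BvdB9.isPerfect_of_cohbP hreg
      (K0Db.bd_single K0Coh.serre_coh (hcoh M hM).1 0))
  let o : ∀ M, Fl m M → (SGA6.perfP X).FullSubcategory := fun M hM => ⟨Φ.obj (sgl M), hperf M hM⟩
  have hfix : ∀ M (hM : Fl m M), Nonempty (o M hM ≅ F.obj (o M hM)) := fun M hM => by
    obtain ⟨e⟩ := nonempty_phi_sgl j M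
    have hp' : DCoh.IsPerfect (DCoh.inD X (tl M)) := DGen9.isPerfect_of_iso e (hperf M hM)
    obtain ⟨f⟩ := nonempty_fix F h (hcoh M hM).1 hx (hcoh M hM).2 hp'
    let e' : o M hM ≅ ⟨DCoh.inD X (tl M), hp'⟩ := ObjectProperty.isoMk _ e
    exact ⟨e' ≪≫ f ≪≫ F.mapIso e'.symm⟩
  let cc : ∀ n : ℤ, ι.obj ((o κ hκ)⟦n⟧) ≅ Φ.obj ((sgl κ)⟦n⟧) := fun n =>
    (ι.commShiftIso n).app (o κ hκ) ≪≫ ((Φ.commShiftIso n).app (sgl κ)).symm
  suffices key : ∀ (n : ℕ) M (hM : Fl m M), Bij F (o M hM) ((o κ hκ)⟦(n : ℤ)⟧) by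
    obtain ⟨e⟩ := nonempty_phi_sgl j κ
    let eP : o κ hκ ≅ ⟨ptObj x, hp⟩ :=
      ObjectProperty.isoMk _ (e ≪≫ (DerivedCategory.singleFunctor X.Modules 0).mapIso eS)
    exact bij_congr eP ((shiftFunctor _ (n : ℤ)).mapIso eP) (key n κ hκ)
  -- finite-dimensional comparison
  have hfinish : ∀ (n : ℤ) M (hM : Fl m M),
      (∀ f : o M hM ⟶ (o κ hκ)⟦n⟧, F.map f = 0 → f = 0) → Bij F (o M hM) ((o κ hκ)⟦n⟧) := fun n M hM hinj => by
    haveI := (BvdB9.finite_hom_target k (o M hM) (o κ hκ)).1 n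
    obtain ⟨e₁⟩ := hfix M hM
    obtain ⟨e₂⟩ := hfix κ hκ
    exact bij_of_injective k _ _ (Linear.homCongr k e₁.symm
      ((F.commShiftIso n).app (o κ hκ) ≪≫ (shiftFunctor _ n).mapIso e₂.symm)) hinj
  intro n
  induction n with
  | zero =>
    intro M hM
    refine hfinish ((0 : ℕ) : ℤ) M hM fun f hf => ?_
    let z : (o κ hκ)⟦((0 : ℕ) : ℤ)⟧ ≅ o κ hκ := (shiftFunctorZero' _ _ Nat.cast_zero).app _
    let f' : o M hM ⟶ o κ hκ := f ≫ z.hom
    have hf' : F.map f' = 0 := by rw [F.map_comp, hf, zero_comp]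
    suffices f' = 0 by rwa [← cancel_mono z.hom, zero_comp]
    obtain ⟨g₁, hg₁⟩ := Φ.map_surjective f'.hom
    obtain ⟨g, hg⟩ := (DerivedCategory.singleFunctor (ModuleCat.{u} A) 0).map_surjective g₁
    by_contra hne
    have hgne : g ≠ 0 := fun h0 => hne (ObjectProperty.hom_ext _ (by
      rw [← hg₁, ← hg, h0, Functor.map_zero, Functor.map_zero]
      rfl))
    have hsurj : Function.Surjective g.hom := fun w => by
      obtain ⟨v, hv⟩ : ∃ v, g.hom v ≠ 0 := by
        by_contra hh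
        push Not at hh
        exact hgne (ModuleCat.hom_ext (LinearMap.ext hh))
      obtain ⟨a, ha⟩ := hκs _ hv w
      exact ⟨a • v, by rw [map_smul, ha]⟩
    haveI : Module.Finite A M := hM.1
    have hP : Fl m (ModuleCat.of A ↥(LinearMap.ker g.hom)) := by
      obtain ⟨t, ht⟩ := hM.2
      exact ⟨Module.Finite.iff_fg.2 (IsNoetherian.noetherian _), t, fun r hr z => Subtype.ext (ht r hr z.1)⟩
    let hS := LinearMap.shortExact_shortComplexKer hsurj
    let T := Φ.mapTriangle.obj hS.singleTriangle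
    have hT : T ∈ distTriang _ := Φ.map_distinguished _ hS.singleTriangle_distinguished
    have hT' := BvdB9.distinguished_fullSub T hT (hperf _ hP) (hperf M hM) (hperf κ hκ)
    have hFT := F.map_distinguished _ hT'
    have hmor : F.map (ObjectProperty.homMk T.mor₂ : o M hM ⟶ o κ hκ) = 0 := by
      have : (ObjectProperty.homMk T.mor₂ : o M hM ⟶ o κ hκ) = f' := ObjectProperty.hom_ext _ (by
        show Φ.map (sglMap g) = f'.hom
        rw [← hg₁, ← hg])
      rw [this, hf']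
    obtain ⟨r, hr⟩ := Triangle.yoneda_exact₃ _ hFT (𝟙 (F.obj (o κ hκ))) (by
      show F.map (ObjectProperty.homMk T.mor₂ : o M hM ⟶ o κ hκ) ≫ 𝟙 _ = 0
      rw [hmor, zero_comp])
    obtain ⟨e₁⟩ := hfix _ hP
    obtain ⟨e₂⟩ := hfix κ hκ
    have hr0 : r = 0 := by
      let oP := o _ hP
      have key0 : ∀ u : oP⟦(1 : ℤ)⟧ ⟶ o κ hκ, u = 0 := fun u => by
        let c := (Φ.commShiftIso (1 : ℤ)).app (sgl (ModuleCat.of A ↥(LinearMap.ker g.hom))) ≪≫
          ((ι.commShiftIso (1 : ℤ)).app oP).symm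
        obtain ⟨v, hv⟩ := Φ.map_surjective (c.hom ≫ u.hom)
        refine ObjectProperty.hom_ext _ ((cancel_epi c.hom).1 ?_)
        rw [← hv, eq_zero_of_neg κ one_pos v, Functor.map_zero]
        exact comp_zero.symm
      have := key0 ((shiftFunctor _ (1 : ℤ)).map e₁.hom ≫ r ≫ e₂.inv)
      rw [← Category.assoc, ← cancel_mono e₂.hom, Category.assoc, Iso.inv_hom_id, Category.comp_id, zero_comp] at this
      exact (cancel_epi ((shiftFunctor _ (1 : ℤ)).map e₁.hom)).1 (this.trans comp_zero.symm)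
    rw [hr0, comp_zero] at hr
    have hzκ : IsZero (o κ hκ) := ((IsZero.iff_id_eq_zero _).2 hr).of_iso e₂
    have hz' : IsZero κ := by
      refine IsZero.of_full_of_faithful_of_isZero (DerivedCategory.singleFunctor (ModuleCat.{u} A) 0) κ ?_
      exact IsZero.of_full_of_faithful_of_isZero Φ _ (ι.map_isZero hzκ)
    haveI := hκne
    exact not_subsingleton κ (ModuleCat.subsingleton_of_isZero hz')
  | succ n ih =>
    intro M hM
    refine hfinish ((n + 1 : ℕ) : ℤ) M hM fun ξ hξ => ?_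
    obtain ⟨ξ₀, hξ₀⟩ := Φ.map_surjective (ξ.hom ≫ (cc ((n + 1 : ℕ) : ℤ)).hom)
    haveI : Module.Finite A M := hM.1
    obtain ⟨t₀, ht₀⟩ := hM.2
    obtain ⟨N, t, p, hNf, hNt, hp, hpξ⟩ := exists_efface m κ n hκm M t₀ ht₀ ξ₀
    haveI := hNf
    have hN : Fl m N := ⟨hNf, t, hNt⟩
    have hP : Fl m (ModuleCat.of A ↥(LinearMap.ker p)) :=
      ⟨Module.Finite.iff_fg.2 (IsNoetherian.noetherian _), t, fun r hr z => Subtype.ext (hNt r hr z.1)⟩
    let hS := LinearMap.shortExact_shortComplexKer hp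
    let T := Φ.mapTriangle.obj hS.singleTriangle
    have hT : T ∈ distTriang _ := Φ.map_distinguished _ hS.singleTriangle_distinguished
    have hT' := BvdB9.distinguished_fullSub T hT (hperf _ hP) (hperf N hN) (hperf M hM)
    let es : ((o κ hκ)⟦(n : ℤ)⟧)⟦(1 : ℤ)⟧ ≅ (o κ hκ)⟦((n + 1 : ℕ) : ℤ)⟧ :=
      ((shiftFunctorAdd' _ (n : ℤ) 1 ((n + 1 : ℕ) : ℤ) (by omega)).app (o κ hκ)).symm
    refine eq_zero_step _ hT' (bij_congr (Iso.refl _) es (bij_shift 1 (ih _ hP)))
      (bij_congr (Iso.refl _) es (bij_shift 1 (ih N hN))) ξ ?_ hξ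
    refine ObjectProperty.hom_ext _ ((cancel_mono (cc ((n + 1 : ℕ) : ℤ)).hom).1 ?_)
    show (Φ.map (sglMap (ModuleCat.ofHom p)) ≫ ξ.hom) ≫ (cc ((n + 1 : ℕ) : ℤ)).hom = 0 ≫ _
    rw [Category.assoc, ← hξ₀, ← Functor.map_comp, hpξ, Functor.map_zero, zero_comp]

include k hreg h in
/-- The functor is fully faithful on point sheaves. -/
theorem bij_points {x x' : X} (hx : IsClosed ({x} : Set X)) (hx' : IsClosed ({x'} : Set X))
    (hp : DCoh.IsPerfect (ptObj x)) (hp' : DCoh.IsPerfect (ptObj x')) (i : ℤ) :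
    Bij F (⟨ptObj x, hp⟩ : (SGA6.perfP X).FullSubcategory)
      ((⟨ptObj x', hp'⟩ : (SGA6.perfP X).FullSubcategory)⟦i⟧) := by
  by_cases hcase : x = x' ∧ 0 ≤ i
  · obtain ⟨rfl, hi⟩ := hcase
    lift i to ℕ using hi
    exact bij_nat k hreg F h hx hp i
  let ι := ObjectProperty.ι (SGA6.perfP X)
  haveI : IsLocallyNoetherian X := LocallyOfFiniteType.isLocallyNoetherian (X ↘ Spec (CommRingCat.of k))
  have hD : ∀ φ : ptObj x ⟶ (ptObj x')⟦i⟧, φ = 0 := by
    by_cases hi : 0 ≤ i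
    · have hne : x ≠ x' := fun he => hcase ⟨he, hi⟩
      refine (PtSky9.hom_sky_right hx' _ (DGen9.isQCohD_of_isPerfect hp) i).2 ?_
      let W : X.Opens := ⟨{x}ᶜ, hx.isOpen_compl⟩
      let j := X.fromSpecResidueField x'
      have hr : Set.range j ⊆ Set.range W.ι := by
        rw [Scheme.range_fromSpecResidueField, Scheme.Opens.range_ι]
        exact Set.singleton_subset_iff.2 (Ne.symm hne)
      let l := IsOpenImmersion.lift W.ι j hr
      haveI := (DMon9.adjLP l).isLeftAdjoint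
      exact (DerivedCategory.homologyFunctor _ _).map_isZero (((DMon9.lP l).map_isZero
        (KerId9.isZero_skyO_away hx (U := W) fun hxW => hxW rfl)).of_iso
          ((DMon9.lPComp l W.ι (IsOpenImmersion.lift_fac _ _ _)).app _).symm)
    · intro φ
      haveI : ((ptObj x')⟦i⟧).IsGE (-i) :=
        DerivedCategory.TStructure.t.isGE_shift _ 0 i (-i) (by omega)
      exact DerivedCategory.TStructure.t.zero φ 0 (-i) (by omega)
  let a : (SGA6.perfP X).FullSubcategory := ⟨ptObj x, hp⟩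
  let b : (SGA6.perfP X).FullSubcategory := ⟨ptObj x', hp'⟩
  have hT : ∀ f : a ⟶ b⟦i⟧, f = 0 := fun f => ObjectProperty.hom_ext _
    ((cancel_mono ((ι.commShiftIso i).app b).hom).1 ((hD _).trans zero_comp.symm))
  obtain ⟨e⟩ := nonempty_fix F h (x := x) (KerId9.isCoh_skyO hx) hx (KerId9.mem_support_skyO hx).2 hp
  obtain ⟨e'⟩ := nonempty_fix F h (x := x') (KerId9.isCoh_skyO hx') hx' (KerId9.mem_support_skyO hx').2 hp'
  refine bij_of_zero _ _ hT fun g => ?_
  have := hT (e.hom ≫ g ≫ (F.commShiftIso i).hom.app b ≫ (shiftFunctor _ i).map e'.inv)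
  rw [Preadditive.IsIso.comp_left_eq_zero, Preadditive.IsIso.comp_right_eq_zero] at this
  exact this

end Groth.Agent.PtFF9
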